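/-
The Schur multiplier of the Tits group is trivial.

Main result: `schur_multiplier_tits`.
-/
import Cfsg.Agent.Lib.TitsMult.Data
import Cfsg.Agent.Lib.TitsMult.Packed
import Cfsg.Agent.Lib.Twisted.Tits

set_option autoImplicit false
set_option maxRecDepth 100000
set_option linter.style.haveILetI false

open scoped commutatorElement

namespace Cfsg.Agent.TitsMult

open Cfsg.Lie Matrix Cfsg.Agent.BitMat Cfsg.Agent.Twisted.Tits PcCover PcTrivial

/-- The Tits group. -/
abbrev TG : Type := TitsGroup

theorem commutator_eq_ker : commutator ↥T2 = chi.ker := by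
  have hle : commutator ↥T2 ≤ chi.ker := Abelianization.commutator_subset_ker chi
  have h2 : chi.ker.index = 2 := by
    have h := Subgroup.index_dvd_of_le hle
    rw [index_commutator] at h
    rcases (Nat.dvd_prime Nat.prime_two).1 h with h1 | h1
    · exact absurd (MonoidHom.mem_ker.1 ((Subgroup.index_eq_one.1 h1).ge (Subgroup.mem_top (gT 2)))) chi_gT_two
    · exact h1
  refine Subgroup.eq_of_le_of_card_ge hle (Nat.le_of_eq ?_)
  have e1 := chi.ker.card_mul_index
  have e2 := (commutator ↥T2).card_mul_index
  rw [h2] at e1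
  rw [index_commutator] at e2
  omega

theorem chi_gT (k : Fin 4) : chi (gT k) = Multiplicative.ofAdd (chi0 k) := by
  show Multiplicative.ofAdd (fF (act (gT k) x0) + fF x0) = _
  have h : fF (act (gT k) x0) = fF x0 + chi0 k * fQ x0 := by
    show fF ((gen0 k : Matrix _ _ (ZMod 2)) *ᵥ x0) = _
    rw [coe_gen0]; exact (gen_step k x0).2
  rw [h, fQ_x0, mul_one, add_comm (fF x0), add_assoc, CharTwo.add_self_eq_zero, add_zero]

/-- An even word. -/
def evenW (l : List (Fin 4)) : Bool := (l.countP fun k => decide (2 ≤ k.val)) % 2 == 0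

theorem cast_countP_cons (k : Fin 4) (l : List (Fin 4)) :
    ((((k :: l).countP fun k => decide (2 ≤ k.val)) : ℕ) : ZMod 2) =
      chi0 k + (((l.countP fun k => decide (2 ≤ k.val)) : ℕ) : ZMod 2) := by
  rw [List.countP_cons, Nat.cast_add, add_comm]
  congr 1
  fin_cases k <;> decide

/-- A homomorphism on a word. -/
theorem map_word {A G : Type*} [Group G] {H : Type*} [MulOneClass H] (f : G →* H) (g : A → G) (c : List A → H)
    (h0 : c [] = 1) (h1 : ∀ k l, c (k :: l) = f (g k) * c l) : ∀ l : List A, f (l.map g).prod = c l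
  | [] => by rw [List.map_nil, List.prod_nil, map_one, h0]
  | k :: l => by rw [List.map_cons, List.prod_cons, map_mul, map_word f g c h0 h1 l, h1]

theorem wT_mem {l : List (Fin 4)} (h : evenW l = true) : wT l ∈ commutator ↥T2 := by
  rw [commutator_eq_ker, MonoidHom.mem_ker, wT,
    map_word chi gT (fun l => Multiplicative.ofAdd (((l.countP fun k => decide (2 ≤ k.val)) : ℕ) : ZMod 2)) rfl
      (fun k l => by rw [chi_gT, cast_countP_cons, ofAdd_add])]
  have h' : (l.countP fun k => decide (2 ≤ k.val)) % 2 = 0 := beq_iff_eq.1 h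
  rw [(ZMod.natCast_eq_zero_iff_even (n := _)).2 (Nat.even_iff.2 h')]
  rfl

/-- The element of a word (trivial for an odd word). -/
noncomputable def elW (l : List (Fin 4)) : TG :=
  if h : evenW l = true then ⟨wT l, wT_mem h⟩ else 1

/-- The matrix of an element. -/
noncomputable def rho : TG →* Matrix chevF4.Idx chevF4.Idx (ZMod 2) :=
  ((Units.coeHom _).comp T2.subtype).comp (commutator ↥T2).subtype

theorem rho_injective : Function.Injective rho := fun _ _ h => Subtype.ext (Subtype.ext (Units.ext h))

/-- A bit vector as a vector. -/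
def vecB (v : ℕ) (a : chevF4.Idx) : ZMod 2 := bitVal v (eI a)

theorem toMat_mulVec {L : List ℕ} (hL : L.length = 52) (v : ℕ) :
    toMat eI L *ᵥ vecB v = vecB (appB L v) := by
  funext a
  simp only [Matrix.mulVec, dotProduct, toMat, vecB]
  rw [bitVal_appB, hL, ← Fin.sum_univ_eq_sum_range, ← eI.sum_comp]

theorem vecB_inj {v w : ℕ} (hv : v < 2 ^ 52) (hw : w < 2 ^ 52) (h : vecB v = vecB w) : v = w := by
  refine Nat.eq_of_testBit_eq fun i => ?_
  by_cases hi : i < 52
  · have := congrFun h (eI.symm ⟨i, hi⟩)
    simp only [vecB, Equiv.apply_symm_apply, bitVal] at this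
    by_cases h1 : Nat.testBit v i <;> by_cases h2 : Nat.testBit w i <;> simp_all
  · rw [Nat.testBit_eq_false_of_lt (lt_of_lt_of_le hv (Nat.pow_le_pow_right two_pos (not_lt.1 hi))),
      Nat.testBit_eq_false_of_lt (lt_of_lt_of_le hw (Nat.pow_le_pow_right two_pos (not_lt.1 hi)))]

/-- The rules make a chain of subgroups with steps of order at most `p`. -/
def chainOk (C : PcTrivial.Cert) : Bool :=
  ((List.range C.n).all fun i => C.rules.any fun r => r.1 == List.replicate C.p i &&
    r.2.all (fun l => decide (i < l) && decide (l < C.n))) &&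
  ((List.range C.n).all fun j => (List.range j).all fun i => C.rules.any fun r => r.1 == [j, i] &&
    match r.2 with
    | h :: w => h == i && w.all (fun l => decide (i < l) && decide (l < C.n))
    | [] => false)

/-- The checks on the matrices. -/
def matsOk (W : List (List (Fin 4))) (M : List (List ℕ)) : Bool :=
  W.all evenW && M.all bddB && (List.ofFn genB).all bddB && W.map (evalP genB) == M.map packB

/-- The checks on the rules and fusion relations. -/
def relsOk (C : PcTrivial.Cert) (M : List (List ℕ)) : Bool :=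
  (C.rules.all fun r => evalP (fun i => M.getD i (idB 52)) r.1 == evalP (fun i => M.getD i (idB 52)) r.2) &&
  (C.rels.all fun r => match r with
    | .fus x A B A' B' =>
      evalP (fun i => M.getD i (idB 52)) ((C.n + x) :: A) ==
          evalP (fun i => M.getD i (idB 52)) (A' ++ [C.n + x]) &&
        evalP (fun i => M.getD i (idB 52)) ((C.n + x) :: B) ==
          evalP (fun i => M.getD i (idB 52)) (B' ++ [C.n + x])
    | _ => true)

/-- The checks on the separating sets. -/
def sepOk (C : PcTrivial.Cert) (M : List (List ℕ)) (Sep : List (List ℕ)) : Bool :=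
  (List.range C.n).all fun i =>
    match Sep.getD i [] with
    | v :: O =>
      (v :: O).all (fun x => decide (x < 2 ^ 52)) &&
      decide (appB (M.getD i (idB 52)) v < 2 ^ 52) && !(v :: O).contains (appB (M.getD i (idB 52)) v) &&
      (List.range C.n).all fun j => decide (j ≤ i) ||
        (v :: O).all fun x => (v :: O).contains (appB (M.getD j (idB 52)) x)
    | [] => false

theorem not_stem_of_data (C : PcTrivial.Cert) (W : List (List (Fin 4))) (M : List (List ℕ)) (Sep : List (List ℕ))
    (hp : C.p.Prime) (hC : C.check = true) (hchain : chainOk C = true) (hM : matsOk W M = true)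
    (hR : relsOk C M = true) (hS : sepOk C M Sep = true) (hord : ¬ C.p ^ (C.n + 1) ∣ 17971200)
    {Γ : Type} [Group Γ] [Finite Γ] (σ : Γ →* TG) (hσ : Cfsg.IsStemExtension σ) : Nat.card σ.ker ≠ C.p := by
  classical
  simp only [matsOk, Bool.and_eq_true, List.all_eq_true, beq_iff_eq] at hM
  obtain ⟨⟨⟨hevW, hbM⟩, hbG⟩, hmap⟩ := hM
  let g : ℕ → TG := fun i => elW (W.getD i [])
  let L : ℕ → List ℕ := fun i => M.getD i (idB 52)
  have hbd : ∀ {x : List ℕ}, bddB x = true → x.length = 52 ∧ ∀ c ∈ x, c < 2 ^ 52 := fun {x} hx => by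
    simp only [bddB, Bool.and_eq_true, beq_iff_eq, List.all_eq_true, decide_eq_true_eq] at hx
    exact hx
  have hgen : ∀ k, (genB k).length = 52 ∧ ∀ c ∈ genB k, c < 2 ^ 52 := fun k =>
    hbd (hbG _ (List.mem_ofFn.2 ⟨k, rfl⟩))
  have hWM : W.map wB = M := by
    have hlen : W.length = M.length := by simpa using congrArg List.length hmap
    refine List.ext_getElem (by simpa using hlen) fun i h1 h2 => ?_
    simp only [List.length_map] at h1
    rw [List.getElem_map]
    refine evalB_eq_of_packed_lit hgen (hbM _ (List.getElem_mem h2)) ?_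
    have e := List.getElem_of_eq hmap (i := i) (by simpa using h1)
    simpa using e
  have hM : (∀ x ∈ W, evenW x = true) ∧ W.map wB = M := ⟨hevW, hWM⟩
  have hLW : ∀ i, L i = wB (W.getD i []) := fun i => by
    simp only [L, ← hM.2, List.getD_eq_getElem?_getD, List.getElem?_map]
    cases W[i]? <;> rfl
  have hLlen : ∀ i, (L i).length = 52 := fun i => by
    rw [hLW]; exact length_evalB (fun k => (genB_eq k).2.2) _
  have heven : ∀ i, evenW (W.getD i []) = true := fun i => by
    rw [List.getD_eq_getElem?_getD]
    cases h : W[i]? with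
    | none => rfl
    | some x => exact hM.1 x (List.mem_of_getElem? h)
  have hρ : ∀ i, rho (g i) = toMat eI (L i) := fun i => by
    simp only [g, elW, dif_pos (heven i), hLW]
    exact coe_wT _
  have hLbd : ∀ i, (L i).length = 52 ∧ ∀ c ∈ L i, c < 2 ^ 52 := fun i => by
    rw [hLW]; exact evalB_bdd hgen _
  have hwp : ∀ {u w : List ℕ}, evalP L u = evalP L w → wp g u = wp g w := fun {u w} e => rho_injective (by
    rw [wp, wp, mat_prod eI rho hLlen hρ, mat_prod eI rho hLlen hρ, evalB_eq_of_packed hLbd e])
  simp only [relsOk, Bool.and_eq_true, List.all_eq_true, beq_iff_eq] at hR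
  have hrules : ∀ r ∈ C.rules, wp g r.1 = wp g r.2 := fun r hr => hwp (hR.1 r hr)
  have hfus : ∀ x A B A' B', PcTrivial.Rel.fus x A B A' B' ∈ C.rels →
      g (C.n + x) * wp g A = wp g A' * g (C.n + x) ∧ g (C.n + x) * wp g B = wp g B' * g (C.n + x) := by
    intro x A B A' B' hx
    have h := hR.2 _ hx
    simp only [Bool.and_eq_true, beq_iff_eq] at h
    have h1 := hwp h.1
    have h2 := hwp h.2
    rw [wp_cons, wp_append, wp_single] at h1 h2
    exact ⟨h1, h2⟩
  -- the chain
  let Q : ℕ → Subgroup TG := fun i => Subgroup.closure {y | ∃ j, i ≤ j ∧ j < C.n ∧ y = g j}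
  have hQmem : ∀ {i j}, i ≤ j → j < C.n → g j ∈ Q i := fun h1 h2 => Subgroup.subset_closure ⟨_, h1, h2, rfl⟩
  have hwpQ : ∀ {i} {w : List ℕ}, (∀ l ∈ w, i ≤ l ∧ l < C.n) → wp g w ∈ Q i := by
    intro i w hw
    induction w with
    | nil => exact one_mem _
    | cons x w ih =>
      rw [wp_cons]
      exact mul_mem (hQmem (hw x List.mem_cons_self).1 (hw x List.mem_cons_self).2)
        (ih fun l hl => hw l (List.mem_cons_of_mem _ hl))
  simp only [sepOk, List.all_eq_true, List.mem_range] at hS
  have hsep : ∀ i, i < C.n → g i ∉ Q (i + 1) := by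
    intro i hi hmem
    have h := hS i hi
    cases hO : Sep.getD i [] with
    | nil => rw [hO] at h; simp at h
    | cons v O =>
      rw [hO] at h
      simp only [Bool.and_eq_true, List.all_eq_true, decide_eq_true_eq, Bool.not_eq_true', List.mem_range,
        Bool.or_eq_true, List.contains_iff_mem] at h
      obtain ⟨⟨⟨hb, hib⟩, hout⟩, hcl⟩ := h
      let P : Submonoid TG :=
        { carrier := {y | ∀ x ∈ v :: O, ∃ x' ∈ v :: O, rho y *ᵥ vecB x = vecB x'}
          one_mem' := fun x hx => ⟨x, hx, by rw [map_one, Matrix.one_mulVec]⟩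
          mul_mem' := fun {a b} ha hb x hx => by
            obtain ⟨x', hx', e⟩ := hb x hx
            obtain ⟨x'', hx'', e'⟩ := ha x' hx'
            exact ⟨x'', hx'', by rw [map_mul, ← Matrix.mulVec_mulVec, e, e']⟩ }
      have hle : (Q (i + 1)).toSubmonoid ≤ P := by
        rw [Subgroup.closure_toSubmonoid_of_finite, Submonoid.closure_le]
        rintro _ ⟨j, hij, hj, rfl⟩ x hx
        rcases hcl j hj with h' | h'
        · omega
        · exact ⟨_, h' x hx, by rw [hρ, toMat_mulVec (hLlen j)]⟩
      obtain ⟨x', hx', e⟩ := hle hmem v List.mem_cons_self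
      rw [hρ, toMat_mulVec (hLlen i)] at e
      have := vecB_inj hib (hb x' hx') e
      rw [← this] at hx'
      have hout' := List.contains_iff_mem.2 hx'
      rw [hout] at hout'
      exact Bool.false_ne_true hout'
  simp only [chainOk, Bool.and_eq_true, List.all_eq_true, List.mem_range, List.any_eq_true, beq_iff_eq] at hchain
  have hcard : ∀ k i, i + k = C.n → C.p ^ k ∣ Nat.card (Q i) := by
    intro k
    induction k with
    | zero => intro i _; rw [pow_zero]; exact one_dvd _
    | succ k ih =>
      intro i hik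
      have hN : g i ∈ Subgroup.normalizer (Q (i + 1) : Set TG) := by
        rw [← inv_mem_iff]
        refine mem_normalizer_of_conj _ _ fun y hy => ?_
        induction hy using Subgroup.closure_induction with
        | mem y hy =>
          obtain ⟨j, hij, hj, rfl⟩ := hy
          obtain ⟨r, hr, h1, h2⟩ := hchain.2 j hj i (by omega)
          have h3 := hrules r hr
          rw [h1] at h3
          cases hw : r.2 with
          | nil => rw [hw] at h2; simp at h2
          | cons x w =>
            rw [hw] at h2 h3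
            simp only [Bool.and_eq_true, beq_iff_eq, List.all_eq_true, decide_eq_true_eq] at h2
            obtain ⟨rfl, h4⟩ := h2
            rw [inv_inv, mul_assoc, show g j * g x = g x * wp g w by simpa [wp_cons, wp_nil] using h3,
              inv_mul_cancel_left]
            exact hwpQ fun l hl => ⟨(h4 l hl).1, (h4 l hl).2⟩
        | one => simp
        | mul x y _ _ hx hy =>
          have := mul_mem hx hy
          rwa [show (g i)⁻¹ * x * (g i)⁻¹⁻¹ * ((g i)⁻¹ * y * (g i)⁻¹⁻¹) = (g i)⁻¹ * (x * y) * (g i)⁻¹⁻¹ by group] at this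
        | inv x _ hx =>
          have := inv_mem hx
          rwa [show ((g i)⁻¹ * x * (g i)⁻¹⁻¹)⁻¹ = (g i)⁻¹ * x⁻¹ * (g i)⁻¹⁻¹ by group] at this
      have hle : Q (i + 1) ≤ Q i := Subgroup.closure_mono fun y ⟨j, h1, h2, e⟩ => ⟨j, by omega, h2, e⟩
      have hgQ : g i ∈ Q i := hQmem le_rfl (by omega)
      have hap : g i ^ C.p ∈ Q (i + 1) := by
        obtain ⟨r, hr, h1, h2⟩ := hchain.1 i (by omega)
        simp only [decide_eq_true_eq] at h2
        have h3 := hrules r hr
        rw [h1, wp, List.map_replicate, List.prod_replicate] at h3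
        rw [h3]
        exact hwpQ fun l hl => ⟨(h2 l hl).1, (h2 l hl).2⟩
      have hnz : ∀ z : ℤ, g i ^ z ∈ Q (i + 1) → (C.p : ℤ) ∣ z := by
        intro z hz
        by_contra hnd
        obtain ⟨s, t, hst⟩ := (Nat.prime_iff_prime_int.1 hp).coprime_iff_not_dvd.2 hnd
        refine hsep i (by omega) ?_
        have h1 : g i ^ (C.p : ℤ) ∈ Q (i + 1) := by rw [_root_.zpow_natCast]; exact hap
        have := mul_mem (zpow_mem h1 s) (zpow_mem hz t)
        rwa [← _root_.zpow_mul, ← _root_.zpow_mul, ← _root_.zpow_add, mul_comm (C.p : ℤ) s, mul_comm z t, hst, _root_.zpow_one] at this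
      let N : Subgroup (Q i) := (Q (i + 1)).subgroupOf (Q i)
      have hNc : Nat.card N = Nat.card (Q (i + 1)) := Nat.card_congr (Subgroup.subgroupOfEquivOfLe hle).toEquiv
      have hidx : C.p ∣ N.index := by
        let x : Q i := ⟨g i, hgQ⟩
        haveI hNn : N.Normal := by
          refine (Subgroup.normal_subgroupOf_iff_le_normalizer hle).2 ?_
          show Subgroup.closure _ ≤ _
          rw [Subgroup.closure_le]
          rintro _ ⟨j, h1, h2, rfl⟩
          rcases Nat.eq_or_lt_of_le h1 with rfl | h1
          · exact hN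
          · exact Subgroup.le_normalizer (hQmem h1 h2)
        have hne : (x : Q i ⧸ N) ≠ 1 := fun h => hsep i (by omega) ((QuotientGroup.eq_one_iff x).1 h)
        haveI := Fact.mk hp
        have hxp : (x : Q i ⧸ N) ^ C.p = 1 := by
          rw [← QuotientGroup.mk_pow, QuotientGroup.eq_one_iff]
          show ((x ^ C.p : Q i) : TG) ∈ Q (i + 1)
          rw [SubgroupClass.coe_pow]; exact hap
        rw [Subgroup.index_eq_card, ← orderOf_eq_prime hxp hne]
        exact orderOf_dvd_natCard _
      rw [← N.card_mul_index, hNc, pow_succ]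
      exact Nat.mul_dvd_mul (ih (i + 1) (by omega)) hidx
  refine C.not_stem g (fun x => g (C.n + x)) hp hC hrules hfus (fun i _ hi => ?_) ?_ hσ
  · have e : Subgroup.closure {y | ∃ j, i < j ∧ j < C.n ∧ y = g j} = Q (i + 1) := rfl
    rw [e]; exact hsep i hi
  · intro hd
    refine hord ?_
    have e : Subgroup.closure {y | ∃ j < C.n, y = g j} = Q 0 := by
      congr 1; ext y; simp
    rw [e] at hd
    have h := Nat.mul_dvd_mul (hcard C.n 0 (by omega)) hd
    rwa [Subgroup.card_mul_index, ← pow_succ, show Nat.card TG = 17971200 from card_derived] at h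

end Cfsg.Agent.TitsMult
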