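/-
Kernel checks of the certificates and the trivial multiplier of the Tits group.

Main result: `schur_multiplier_tits`.
-/
import Cfsg.Agent.Lib.TitsMult.Main

set_option autoImplicit false
set_option maxRecDepth 100000

namespace Cfsg.Agent.TitsMult

open Cfsg.Lie Cfsg.Agent.Twisted.Tits

theorem two_check : two.check = true := by decide +kernel
theorem two_chain : chainOk two = true := by decide +kernel
theorem two_mats : matsOk twoWords twoMats = true := by decide +kernel
theorem two_rels : relsOk two twoMats = true := by decide +kernel
theorem two_sep : sepOk two twoMats twoSep = true := by decide +kernel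

theorem three_check : three.check = true := by decide +kernel
theorem three_chain : chainOk three = true := by decide +kernel
theorem three_mats : matsOk threeWords threeMats = true := by decide +kernel
theorem three_rels : relsOk three threeMats = true := by decide +kernel
theorem three_sep : sepOk three threeMats threeSep = true := by decide +kernel

theorem five_check : five.check = true := by decide +kernel
theorem five_chain : chainOk five = true := by decide +kernel
theorem five_mats : matsOk fiveWords fiveMats = true := by decide +kernel
theorem five_rels : relsOk five fiveMats = true := by decide +kernel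
theorem five_sep : sepOk five fiveMats fiveSep = true := by decide +kernel

theorem schur_multiplier_tits : Cfsg.HasCyclicSchurMultiplier TG 1 := by
  refine Multiplier.hasCyclicSchurMultiplier_one_of_prime fun Γ _ _ σ hσ p hp => ?_
  by_cases h2 : p = 2
  · subst h2
    exact not_stem_of_data two twoWords twoMats twoSep hp two_check two_chain two_mats two_rels two_sep
      (by decide) σ hσ
  by_cases h3 : p = 3
  · subst h3
    exact not_stem_of_data three threeWords threeMats threeSep hp three_check three_chain three_mats three_rels
      three_sep (by decide) σ hσ
  by_cases h5 : p = 5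
  · subst h5
    exact not_stem_of_data five fiveWords fiveMats fiveSep hp five_check five_chain five_mats five_rels five_sep
      (by decide) σ hσ
  refine Multiplier.not_stem_of_not_sq_dvd hσ hp ?_
  rw [show Nat.card TG = 17971200 from card_derived, show (17971200 : ℕ) = 2 ^ 11 * 3 ^ 3 * 5 ^ 2 * 13 by norm_num]
  intro hd
  have hc : ∀ q k : ℕ, q.Prime → p ≠ q → Nat.Coprime (p ^ 2) (q ^ k) := fun q k hq hne =>
    Nat.Coprime.pow _ _ ((Nat.coprime_primes hp hq).2 hne)
  have h1 : p ^ 2 ∣ 13 := ((hc 2 11 Nat.prime_two h2).mul_right (hc 3 3 Nat.prime_three h3) |>.mul_right
    (hc 5 2 (by norm_num) h5)).dvd_of_dvd_mul_left hd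
  have h4 : p ∣ 13 := (dvd_pow_self p two_ne_zero).trans h1
  obtain rfl := (Nat.prime_dvd_prime_iff_eq hp (by norm_num)).1 h4
  exact absurd h1 (by decide)

end Cfsg.Agent.TitsMult
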